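import Mathlib

set_option autoImplicit false

/-!
Gram determinants of bilinear forms and the classification of non-degenerate symmetric bilinear forms
over finite fields of odd characteristic by dimension and discriminant.
-/

namespace Cfsg.Agent.Lib.QuadDisc.Basic

open Module

universe u v

section change

variable {F : Type*} [Field F] {V : Type*} [AddCommGroup V] [Module F V]
  {ι κ : Type*} [Fintype ι] [DecidableEq ι] [Fintype κ] [DecidableEq κ]

/-- The Gram determinant changes by a non-zero square under a change of basis. -/
theorem det_gram_change (b : Basis ι F V) (c : Basis κ F V) (B : LinearMap.BilinForm F V) :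
    ∃ u : F, u ≠ 0 ∧ (LinearMap.BilinForm.toMatrix c B).det = u * u * (LinearMap.BilinForm.toMatrix b B).det := by
  classical
  let e : κ ≃ ι := c.indexEquiv b
  let c' : Basis ι F V := c.reindex e
  have h1 : LinearMap.BilinForm.toMatrix c B = (LinearMap.BilinForm.toMatrix c' B).submatrix e e := by
    ext k l
    simp [LinearMap.BilinForm.toMatrix_apply, c']
  have h2 := LinearMap.BilinForm.toMatrix_mul_basis_toMatrix b c' B
  have hunit : IsUnit (b.toMatrix c').det := by
    have h := b.toMatrix_mul_toMatrix_flip c'
    exact IsUnit.of_mul_eq_one _ (by rw [← Matrix.det_mul, h, Matrix.det_one])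
  refine ⟨(b.toMatrix c').det, hunit.ne_zero, ?_⟩
  rw [h1, Matrix.det_submatrix_equiv_self, ← h2, Matrix.det_mul, Matrix.det_mul, Matrix.det_transpose]
  ring

theorem nondegenerate_iff_det (b : Basis ι F V) (B : LinearMap.BilinForm F V) :
    B.Nondegenerate ↔ (LinearMap.BilinForm.toMatrix b B).det ≠ 0 := by
  rw [← Matrix.nondegenerate_iff_det_ne_zero, LinearMap.BilinForm.nondegenerate_toMatrix_iff]

theorem isSquare_mul_self_mul {d : F} (hd : d ≠ 0) (x : F) : IsSquare (d * d * x) ↔ IsSquare x := by
  constructor
  · rintro ⟨c, hc⟩
    refine ⟨c / d, ?_⟩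
    field_simp
    linear_combination hc
  · rintro ⟨c, hc⟩
    exact ⟨d * c, by rw [hc]; ring⟩

end change

section split

variable {F : Type*} [Field F] {V : Type*} [AddCommGroup V] [Module F V] [FiniteDimensional F V]

/-- Splitting off a non-isotropic vector: the orthogonal complement. -/
noncomputable def perp (B : LinearMap.BilinForm F V) (e : V) : Submodule F V := B.orthogonal (Submodule.span F {e})

theorem mem_perp (B : LinearMap.BilinForm F V) (e x : V) : x ∈ perp B e ↔ B e x = 0 := by
  rw [perp, LinearMap.BilinForm.mem_orthogonal_iff]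
  constructor
  · intro h
    exact h e (Submodule.mem_span_singleton_self e)
  · intro h n hn
    obtain ⟨t, rfl⟩ := Submodule.mem_span_singleton.mp hn
    simp [h]

theorem isCompl_perp (B : LinearMap.BilinForm F V) (e : V) (he : B e e ≠ 0) :
    IsCompl (Submodule.span F {e}) (perp B e) :=
  LinearMap.BilinForm.isCompl_span_singleton_orthogonal he

theorem finrank_perp (B : LinearMap.BilinForm F V) (e : V) (he : B e e ≠ 0) : finrank F (perp B e) + 1 = finrank F V := by
  have h1 := Submodule.finrank_add_eq_of_isCompl (isCompl_perp B e he)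
  have he0 : e ≠ 0 := by
    rintro rfl
    simp at he
  rw [finrank_span_singleton he0] at h1
  omega

/-- The restriction of `B` to `perp B e` is non-degenerate. -/
theorem restrict_nondegenerate (B : LinearMap.BilinForm F V) (hB : B.Nondegenerate) (hS : B.IsSymm) (e : V) (he : B e e ≠ 0) :
    (B.restrict (perp B e)).Nondegenerate := by
  have hrefl : B.IsRefl := hS.isRefl
  apply LinearMap.BilinForm.nondegenerate_restrict_of_disjoint_orthogonal B hrefl
  have h1 : B.orthogonal (perp B e) = Submodule.span F {e} :=
    LinearMap.BilinForm.orthogonal_orthogonal hB hrefl _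
  rw [h1]
  exact (isCompl_perp B e he).disjoint.symm

theorem restrict_isSymm (B : LinearMap.BilinForm F V) (hS : B.IsSymm) (W : Submodule F V) : (B.restrict W).IsSymm :=
  hS.restrict W

/-- A basis of `V` from `e` and a basis of `perp B e`. -/
noncomputable def consBasis (B : LinearMap.BilinForm F V) (e : V) (he : B e e ≠ 0) {n : ℕ} (b : Basis (Fin n) F (perp B e)) :
    Basis (Fin (n + 1)) F V :=
  Basis.mkFinCons e b
    (by
      intro c x hx h0
      by_contra hc
      have h1 : B e (c • e + x) = 0 := by rw [h0, map_zero]
      rw [map_add, map_smul, (mem_perp B e x).mp hx, add_zero, smul_eq_mul] at h1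
      exact (mul_ne_zero hc he) h1)
    (by
      intro z
      refine ⟨-(B e z / B e e), ?_⟩
      rw [mem_perp, map_add, map_smul, smul_eq_mul]
      field_simp
      ring)

theorem consBasis_apply (B : LinearMap.BilinForm F V) (e : V) (he : B e e ≠ 0) {n : ℕ} (b : Basis (Fin n) F (perp B e)) :
    (consBasis B e he b : Fin (n + 1) → V) = Fin.cons e ((↑) ∘ b) := by
  unfold consBasis
  exact Basis.coe_mkFinCons _ _ _ _

theorem gram_consBasis (B : LinearMap.BilinForm F V) (hS : B.IsSymm) (e : V) (he : B e e ≠ 0) {n : ℕ} (b : Basis (Fin n) F (perp B e)) :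
    (LinearMap.BilinForm.toMatrix (consBasis B e he b) B).det =
      B e e * (LinearMap.BilinForm.toMatrix b (B.restrict (perp B e))).det := by
  rw [Matrix.det_succ_row_zero, Finset.sum_eq_single (0 : Fin (n + 1))]
  · simp only [Fin.val_zero, pow_zero, one_mul, Fin.succAbove_zero]
    congr 1
    · simp [LinearMap.BilinForm.toMatrix_apply, consBasis_apply]
    · congr 1
      ext i j
      simp [LinearMap.BilinForm.toMatrix_apply, consBasis_apply]
  · intro j _ hj
    obtain ⟨j', rfl⟩ := Fin.exists_succ_eq.mpr hj
    have h1 : B e (b j') = 0 := (mem_perp B e _).mp (b j').2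
    simp [LinearMap.BilinForm.toMatrix_apply, consBasis_apply, h1]
  · simp

end split

end Cfsg.Agent.Lib.QuadDisc.Basic
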