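import Mathlib
import Cfsg.Agent.Lib.QuadDisc.Basic
import Cfsg.Agent.Lib.QuadFn.PlusForm
import Cfsg.Agent.Lib.Orth.Gram

set_option autoImplicit false

/-!
Classification of non-degenerate symmetric bilinear forms over finite fields of odd characteristic
by the discriminant; existence of totally isotropic subspaces of half dimension.
-/

namespace Cfsg.Agent.Lib.QuadDisc.Classify

open Module Cfsg.Agent.Lib.QuadDisc.Basic

universe u v w

variable {F : Type u} [Field F] [Fintype F]

section rep

variable {V : Type v} [AddCommGroup V] [Module F V] [FiniteDimensional F V]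

theorem exists_self_ne_zero (h2 : (2 : F) ≠ 0) (B : LinearMap.BilinForm F V) (hB : B.Nondegenerate) (hS : B.IsSymm)
    (hV : 0 < finrank F V) : ∃ e, B e e ≠ 0 := by
  have : Invertible (2 : F) := invertibleOfNonzero h2
  have : Nontrivial V := Module.nontrivial_of_finrank_pos (R := F) hV
  exact LinearMap.BilinForm.exists_bilinForm_self_ne_zero hB.ne_zero (LinearMap.BilinForm.isSymm_iff.mp hS)

/-- The sum of two squares with nonzero coefficients takes all values. -/
theorem exists_sum_sq (h2 : (2 : F) ≠ 0) (c d a : F) (hc : c ≠ 0) (hd : d ≠ 0) :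
    ∃ s t : F, c * s ^ 2 + d * t ^ 2 = a := by
  classical
  have hodd : Fintype.card F % 2 = 1 := by
    apply FiniteField.odd_card_of_char_ne_two
    intro h
    exact h2 (by
      have := ringChar.Nat.cast_ringChar (R := F)
      rw [h] at this
      exact_mod_cast this)
  obtain ⟨s, t, hst⟩ := FiniteField.exists_root_sum_quadratic
    (f := Polynomial.C c * Polynomial.X ^ 2 - Polynomial.C a) (g := Polynomial.C d * Polynomial.X ^ 2)
    (by compute_degree!) (by compute_degree!) hodd
  refine ⟨s, t, ?_⟩
  simp only [Polynomial.eval_sub, Polynomial.eval_mul, Polynomial.eval_C, Polynomial.eval_pow, Polynomial.eval_X] at hst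
  linear_combination hst

/-- A form of dimension `≥ 2` represents everything. -/
theorem exists_self_eq (h2 : (2 : F) ≠ 0) (B : LinearMap.BilinForm F V) (hB : B.Nondegenerate) (hS : B.IsSymm)
    (hV : 2 ≤ finrank F V) (a : F) : ∃ e, B e e = a := by
  obtain ⟨e₁, he₁⟩ := exists_self_ne_zero h2 B hB hS (by omega)
  have h1 := finrank_perp B e₁ he₁
  have hnd := restrict_nondegenerate B hB hS e₁ he₁
  have hs := restrict_isSymm B hS (perp B e₁)
  obtain ⟨e₂, he₂⟩ := exists_self_ne_zero h2 _ hnd hs (by omega)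
  obtain ⟨s, t, hst⟩ := exists_sum_sq h2 _ _ a he₁ he₂
  refine ⟨s • e₁ + t • (e₂ : V), ?_⟩
  have h3 : B e₁ (e₂ : V) = 0 := (mem_perp B e₁ _).mp e₂.2
  have h4 : B (e₂ : V) e₁ = 0 := by rw [hS.eq]; simpa using h3
  simp only [map_add, LinearMap.add_apply, map_smul, LinearMap.smul_apply, smul_eq_mul, h3, h4]
  have h5 : B.restrict (perp B e₁) e₂ e₂ = B e₂ e₂ := rfl
  rw [h5] at hst
  linear_combination hst

end rep

/-- Two forms of the same dimension with the same discriminant have bases with the same Gram matrix. -/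
theorem exists_bases_same_gram (h2 : (2 : F) ≠ 0) : ∀ (n : ℕ) (V : Type v) [AddCommGroup V] [Module F V]
    [FiniteDimensional F V] (V' : Type w) [AddCommGroup V'] [Module F V'] [FiniteDimensional F V']
    (B : LinearMap.BilinForm F V) (B' : LinearMap.BilinForm F V'), B.Nondegenerate → B'.Nondegenerate →
    B.IsSymm → B'.IsSymm → (hn : finrank F V = n) → (hn' : finrank F V' = n) →
    IsSquare ((LinearMap.BilinForm.toMatrix (finBasis F V) B).det * (LinearMap.BilinForm.toMatrix (finBasis F V') B').det) →
    ∃ (b : Basis (Fin n) F V) (b' : Basis (Fin n) F V'), ∀ i j, B (b i) (b j) = B' (b' i) (b' j) := by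
  intro n
  induction n with
  | zero =>
    intro V _ _ _ V' _ _ _ B B' _ _ _ _ hn hn' _
    exact ⟨finBasisOfFinrankEq F V hn, finBasisOfFinrankEq F V' hn', fun i => Fin.elim0 i⟩
  | succ n ih =>
    intro V _ _ _ V' _ _ _ B B' hB hB' hS hS' hn hn' hsq
    obtain ⟨e', he'⟩ := exists_self_ne_zero h2 B' hB' hS' (by omega)
    -- a vector of `V` with the same value
    obtain ⟨e, he⟩ : ∃ e, B e e = B' e' e' := by
      by_cases hn1 : n = 0
      · subst hn1
        obtain ⟨e₀, he₀⟩ := exists_self_ne_zero h2 B hB hS (by omega)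
        have h1 := finrank_perp B e₀ he₀
        have h1' := finrank_perp B' e' he'
        have b₁ := finBasisOfFinrankEq F (perp B e₀) (by omega : finrank F (perp B e₀) = 0)
        have b₁' := finBasisOfFinrankEq F (perp B' e') (by omega : finrank F (perp B' e') = 0)
        obtain ⟨u, hu, hu'⟩ := det_gram_change (finBasis F V) (consBasis B e₀ he₀ b₁) B
        obtain ⟨u', hu2, hu2'⟩ := det_gram_change (finBasis F V') (consBasis B' e' he' b₁') B'
        rw [gram_consBasis B hS, Matrix.det_isEmpty, mul_one] at hu'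
        rw [gram_consBasis B' hS', Matrix.det_isEmpty, mul_one] at hu2'
        obtain ⟨r, hr⟩ := hsq
        -- (B e₀ e₀) * (B' e' e') = (u u' r)²
        have h3 : B e₀ e₀ * B' e' e' = (u * u' * r) * (u * u' * r) := by
          rw [hu', hu2']
          linear_combination (u * u * (u' * u')) * hr
        refine ⟨(u * u' * r / B e₀ e₀) • e₀, ?_⟩
        simp only [map_smul, LinearMap.smul_apply, smul_eq_mul]
        field_simp
        linear_combination -h3
      · exact exists_self_eq h2 B hB hS (by omega) _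
    have he0 : B e e ≠ 0 := by rw [he]; exact he'
    have h1 := finrank_perp B e he0
    have h1' := finrank_perp B' e' he'
    have hW : finrank F (perp B e) = n := by omega
    have hW' : finrank F (perp B' e') = n := by omega
    -- discriminants of the complements
    let b₁ := finBasisOfFinrankEq F (perp B e) hW
    let b₁' := finBasisOfFinrankEq F (perp B' e') hW'
    obtain ⟨u, hu, hu'⟩ := det_gram_change (finBasis F V) (consBasis B e he0 b₁) B
    obtain ⟨u', hu2, hu2'⟩ := det_gram_change (finBasis F V') (consBasis B' e' he' b₁') B'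
    rw [gram_consBasis B hS] at hu'
    rw [gram_consBasis B' hS'] at hu2'
    obtain ⟨v, hv, hv'⟩ := det_gram_change b₁ (finBasis F (perp B e)) (B.restrict (perp B e))
    obtain ⟨v', hv2, hv2'⟩ := det_gram_change b₁' (finBasis F (perp B' e')) (B'.restrict (perp B' e'))
    have hsq' : IsSquare ((LinearMap.BilinForm.toMatrix (finBasis F (perp B e)) (B.restrict (perp B e))).det *
        (LinearMap.BilinForm.toMatrix (finBasis F (perp B' e')) (B'.restrict (perp B' e'))).det) := by
      rw [hv', hv2']
      obtain ⟨r, hr⟩ := hsq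
      set a := B e e with ha
      set d := (LinearMap.BilinForm.toMatrix b₁ (B.restrict (perp B e))).det
      set d' := (LinearMap.BilinForm.toMatrix b₁' (B'.restrict (perp B' e'))).det
      rw [← he] at hu2'
      have h5 : (a * d) * (a * d') = (u * u' * r) * (u * u' * r) := by
        rw [hu', hu2']
        linear_combination (u * u * (u' * u')) * hr
      have hat : a * (v * v' * (u * u' * r) / a) = v * v' * (u * u' * r) := mul_div_cancel₀ _ he0
      refine ⟨v * v' * (u * u' * r) / a, ?_⟩
      apply mul_left_cancel₀ (mul_ne_zero he0 he0)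
      linear_combination (v * v * (v' * v')) * h5 - (a * (v * v' * (u * u' * r) / a) + v * v' * (u * u' * r)) * hat
    obtain ⟨c, c', hcc⟩ := ih (perp B e) (perp B' e') (B.restrict (perp B e)) (B'.restrict (perp B' e'))
      (restrict_nondegenerate B hB hS e he0) (restrict_nondegenerate B' hB' hS' e' he')
      (restrict_isSymm B hS _) (restrict_isSymm B' hS' _) hW hW' hsq'
    refine ⟨consBasis B e he0 c, consBasis B' e' he' c', ?_⟩
    have hcomp : ∀ i, B e (c i) = 0 := fun i => (mem_perp B e _).mp (c i).2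
    have hcomp' : ∀ i, B' e' (c' i) = 0 := fun i => (mem_perp B' e' _).mp (c' i).2
    intro i j
    rw [consBasis_apply, consBasis_apply]
    refine Fin.cases ?_ (fun i => ?_) i <;> refine Fin.cases ?_ (fun j => ?_) j
    · simpa using he
    · simp [hcomp, hcomp']
    · simp only [Fin.cons_zero, Fin.cons_succ, Function.comp]
      rw [hS.eq, hS'.eq]
      simp [hcomp, hcomp']
    · simp only [Fin.cons_succ, Function.comp]
      exact hcc i j

/-- Isometry theorem. -/
theorem exists_isometry (h2 : (2 : F) ≠ 0) {V : Type v} [AddCommGroup V] [Module F V]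
    [FiniteDimensional F V] {V' : Type w} [AddCommGroup V'] [Module F V'] [FiniteDimensional F V']
    (B : LinearMap.BilinForm F V) (B' : LinearMap.BilinForm F V') (hB : B.Nondegenerate) (hB' : B'.Nondegenerate)
    (hS : B.IsSymm) (hS' : B'.IsSymm) (hn : finrank F V = finrank F V')
    (hsq : IsSquare ((LinearMap.BilinForm.toMatrix (finBasis F V) B).det * (LinearMap.BilinForm.toMatrix (finBasis F V') B').det)) :
    ∃ g : V ≃ₗ[F] V', ∀ x y, B' (g x) (g y) = B x y := by
  obtain ⟨b, b', hbb⟩ := exists_bases_same_gram h2 (finrank F V) V V' B B' hB hB' hS hS' rfl hn.symm hsq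
  refine ⟨b.equiv b' (Equiv.refl _), ?_⟩
  have h : B'.comp (b.equiv b' (Equiv.refl _)).toLinearMap (b.equiv b' (Equiv.refl _)).toLinearMap = B := by
    apply LinearMap.BilinForm.ext_basis b
    intro i j
    simp [hbb]
  intro x y
  have := congrArg (fun C : LinearMap.BilinForm F V => C x y) h
  simpa using this

section ti

variable {V : Type v} [AddCommGroup V] [Module F V] [FiniteDimensional F V]

/-- The Gram matrix of `polarPlus` in the standard basis. -/
theorem gram_polarPlus (n : ℕ) :
    LinearMap.BilinForm.toMatrix (Pi.basisFun F (Fin n ⊕ Fin n)) (Cfsg.Agent.Lib.QuadFn.PlusForm.polarPlus F n) =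
      Cfsg.Agent.Lib.Orth.Gram.hypMat (Fin n) F := by
  ext i j
  rw [LinearMap.BilinForm.toMatrix_apply]
  rcases i with i | i <;> rcases j with j | j <;>
    simp [Pi.single_apply, Matrix.one_apply, eq_comm]

/-- Half-dimensional totally isotropic subspaces from the discriminant. -/
theorem exists_ti_of_disc (h2 : (2 : F) ≠ 0) (B : LinearMap.BilinForm F V) (hB : B.Nondegenerate) (hS : B.IsSymm)
    (n : ℕ) (hdim : finrank F V = 2 * n) {ι : Type*} [Fintype ι] [DecidableEq ι] (b : Basis ι F V)
    (hsq : IsSquare ((-1) ^ n * (LinearMap.BilinForm.toMatrix b B).det)) :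
    ∃ X : Submodule F V, finrank F X = n ∧ ∀ x ∈ X, ∀ y ∈ X, B x y = 0 := by
  have S := Cfsg.Agent.Lib.QuadFn.PlusForm.qspace F n
  have hdim₀ := Cfsg.Agent.Lib.QuadFn.PlusForm.finrank_total F n
  have hS₀ : (Cfsg.Agent.Lib.QuadFn.PlusForm.polarPlus F n).IsSymm := ⟨fun x y => S.symm x y⟩
  obtain ⟨u, hu, hu'⟩ := det_gram_change (Pi.basisFun F (Fin n ⊕ Fin n)) (finBasis F (Fin n ⊕ Fin n → F))
    (Cfsg.Agent.Lib.QuadFn.PlusForm.polarPlus F n)
  obtain ⟨v, hv, hv'⟩ := det_gram_change b (finBasis F V) B
  rw [gram_polarPlus, Cfsg.Agent.Lib.Orth.Gram.det_hyp] at hu'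
  simp only [Fintype.card_fin] at hu'
  obtain ⟨g, hg⟩ := exists_isometry h2 (Cfsg.Agent.Lib.QuadFn.PlusForm.polarPlus F n) B S.nd hB hS₀ hS
    (by rw [hdim₀, hdim]) (by
      rw [hu', hv']
      obtain ⟨r, hr⟩ := hsq
      refine ⟨u * v * r, ?_⟩
      linear_combination (u * u * (v * v)) * hr)
  refine ⟨(Cfsg.Agent.Lib.QuadFn.PlusForm.stdM F n).map g.toLinearMap, ?_, ?_⟩
  · rw [LinearEquiv.finrank_map_eq, Cfsg.Agent.Lib.QuadFn.PlusForm.stdM_finrank]
  · rintro _ ⟨x, hx, rfl⟩ _ ⟨y, hy, rfl⟩
    have := S.ts_polar (Cfsg.Agent.Lib.QuadFn.PlusForm.stdM_ts F n) hx hy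
    simp only [LinearEquiv.coe_coe]
    rw [hg, this]

/-- The discriminant of a form with a half-dimensional totally isotropic subspace. -/
theorem disc_of_exists_ti (B : LinearMap.BilinForm F V) (hS : B.IsSymm)
    (n : ℕ) (hdim : finrank F V = 2 * n) {ι : Type*} [Fintype ι] [DecidableEq ι] (b : Basis ι F V)
    (X : Submodule F V) (hX : finrank F X = n) (hXt : ∀ x ∈ X, ∀ y ∈ X, B x y = 0) :
    IsSquare ((-1) ^ n * (LinearMap.BilinForm.toMatrix b B).det) := by
  obtain ⟨Y, hY⟩ := Submodule.exists_isCompl X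
  have hfin := Submodule.finrank_add_eq_of_isCompl hY
  have hYn : finrank F Y = n := by omega
  let bX := finBasisOfFinrankEq F X hX
  let bY := finBasisOfFinrankEq F Y hYn
  let c : Basis (Fin n ⊕ Fin n) F V := (bX.prod bY).map (Submodule.prodEquivOfIsCompl X Y hY)
  have hc1 : ∀ i, c (Sum.inl i) = (bX i : V) := by
    intro i
    simp [c]
  have hc2 : ∀ i, c (Sum.inr i) = (bY i : V) := by
    intro i
    simp [c]
  let A : Matrix (Fin n) (Fin n) F := Matrix.of fun i j => B (bX i) (bY j)
  let D : Matrix (Fin n) (Fin n) F := Matrix.of fun i j => B (bY i) (bY j)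
  have hgram : LinearMap.BilinForm.toMatrix c B = Matrix.fromBlocks 0 A A.transpose D := by
    ext i j
    rw [LinearMap.BilinForm.toMatrix_apply]
    rcases i with i | i <;> rcases j with j | j
    · simp [hc1, hXt _ (bX i).2 _ (bX j).2]
    · simp [hc1, hc2, A]
    · simp only [hc1, hc2, Matrix.fromBlocks_apply₂₁, Matrix.transpose_apply, A, Matrix.of_apply]
      rw [hS.eq]
    · simp [hc2, D]
  have hdet : (LinearMap.BilinForm.toMatrix c B).det = A.det * A.det * (-1) ^ n := by
    have h1 : Matrix.fromBlocks (0 : Matrix (Fin n) (Fin n) F) A A.transpose D =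
        Matrix.fromBlocks A 0 D A.transpose * Cfsg.Agent.Lib.Orth.Gram.hypMat (Fin n) F := by
      simp [Matrix.fromBlocks_multiply]
    rw [hgram, h1, Matrix.det_mul, Matrix.det_fromBlocks_zero₁₂, Matrix.det_transpose,
      Cfsg.Agent.Lib.Orth.Gram.det_hyp]
    simp
  obtain ⟨u, hu, hu'⟩ := det_gram_change c b B
  rw [hu', hdet]
  refine ⟨u * A.det, ?_⟩
  have hone : ((-1 : F) ^ n) * (-1) ^ n = 1 := by
    rw [← mul_pow]; simp
  linear_combination (u * u * (A.det * A.det)) * hone

end ti

end Cfsg.Agent.Lib.QuadDisc.Classify
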